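import Groth.Agent.Lib.FpqcPic26.Sections
import Groth.Agent.Lib.FpqcPic26.Trans
import Groth.Agent.Lib.RigDesc26.Main
import Groth.Agent.Lib.RigDesc26.Disjoint

/-!
# Charts of a descended class along a flat quasi-compact covering
-/

set_option autoImplicit false
set_option linter.all false
set_option backward.isDefEq.respectTransparency false
set_option maxHeartbeats 1000000
set_option synthInstance.maxHeartbeats 200000

universe u

open CategoryTheory CategoryTheory.Limits AlgebraicGeometry Opposite TopologicalSpace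
open GrothLib.Ample GrothLib.Cube
open GrothLib.PicDescent GrothLib.RigDesc26

noncomputable section

namespace GrothLib.FpqcPic26

variable {X S U : Scheme.{u}} {f : X ⟶ S} {u : U ⟶ S} {c : Cocycle (pullback f u)}

/-- Restriction of transition values. -/
theorem res_tr {w : ∀ i k, Γ(pullback f (pullback.fst u u ≫ u), sq c i k)} {Z : Scheme.{u}}
    {a b : Z ⟶ pullback f u} (h : a ≫ pullback.fst f u = b ≫ pullback.fst f u) (i k : c.ι) {W W' : Z.Opens}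
    (e : W' ≤ W) (ea : W ≤ a ⁻¹ᵁ c.D i) (eb : W ≤ b ⁻¹ᵁ c.D k) :
    res e (tr w a b h i k W ea eb) = tr w a b h i k W' (e.trans ea) (e.trans eb) :=
  res_appLE' _ _ _ _

/-- A chart: a flat quasi-compact covering of an open with an invariant family of units. -/
structure Chart (T : Trans c) (y : X) where
  E : X.Opens
  mem : y ∈ E
  V : Scheme.{u}
  j : V ⟶ pullback f u
  flat : Flat (j ≫ pullback.fst f u)
  range : ∀ v : V, (j ≫ pullback.fst f u) v ∈ E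
  surj : ∀ x ∈ E, ∃ v : V, (j ≫ pullback.fst f u) v = x
  qc : ∀ {Z : Scheme.{u}} (g : Z ⟶ X), (∀ z, g z ∈ E) → QuasiCompact (pullback.snd (j ≫ pullback.fst f u) g)
  τ : ∀ i, Γ(V, j ⁻¹ᵁ c.D i)
  τu : ∀ i, IsUnit (τ i)
  rel : ∀ {Z : Scheme.{u}} (a b : Z ⟶ V) (h : (a ≫ j) ≫ pullback.fst f u = (b ≫ j) ≫ pullback.fst f u)
    (i k : c.ι) (W : Z.Opens) (ea : W ≤ (a ≫ j) ⁻¹ᵁ c.D i) (eb : W ≤ (b ≫ j) ⁻¹ᵁ c.D k)
    (ea' : W ≤ a ⁻¹ᵁ (j ⁻¹ᵁ c.D i)) (eb' : W ≤ b ⁻¹ᵁ (j ⁻¹ᵁ c.D k)),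
    b.appLE (j ⁻¹ᵁ c.D k) W eb' (τ k) = tr T.w (a ≫ j) (b ≫ j) h i k W ea eb * a.appLE (j ⁻¹ᵁ c.D i) W ea' (τ i)

variable [Flat u] [QuasiCompact u] [Surjective u]

/-- A sum of affine pieces, trivialised. -/
theorem exists_units {V : Scheme.{u}} (j : V ⟶ pullback f u) {κ : Type u} (R : κ → V.Opens) (idx : κ → c.ι)
    (hR : ∀ k, R k ≤ j ⁻¹ᵁ c.D (idx k)) (hcov : ∀ v, ∃ k, v ∈ R k) (hdisj : ∀ k k', k ≠ k' → R k ⊓ R k' ≤ ⊥) :
    ∃ a : ∀ i, Γ(V, j ⁻¹ᵁ c.D i), (∀ i, IsUnit (a i)) ∧ ∀ (i i' : c.ι) (W : V.Opens) (h : W ≤ j ⁻¹ᵁ c.D i)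
      (h' : W ≤ j ⁻¹ᵁ c.D i'), res h' (a i') = res h (a i) * (c.comap j).G i i' h h' := by
  have key : ∀ i, ∃ a : Γ(V, j ⁻¹ᵁ c.D i), ∀ k, res inf_le_left a =
      (c.comap j).G (idx k) i ((inf_le_right : j ⁻¹ᵁ c.D i ⊓ R k ≤ R k).trans (hR k)) inf_le_left := by
    intro i
    exact exists_glue (fun k => j ⁻¹ᵁ c.D i ⊓ R k) (O := j ⁻¹ᵁ c.D i) (fun _ => inf_le_left)
      (fun v hv => by obtain ⟨k, hk⟩ := hcov v; exact Opens.mem_iSup.2 ⟨k, hv, hk⟩) _ (fun k k' => by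
        rcases eq_or_ne k k' with rfl | hne
        · rfl
        · exact eq_of_le_bot ((inf_le_inf inf_le_right inf_le_right).trans (hdisj k k' hne)) _ _)
  choose a ha using key
  have hcv : ∀ i, j ⁻¹ᵁ c.D i ≤ ⨆ k, j ⁻¹ᵁ c.D i ⊓ R k := fun i v hv => by
    obtain ⟨k, hk⟩ := hcov v; exact Opens.mem_iSup.2 ⟨k, hv, hk⟩
  refine ⟨a, fun i => isUnit_of_res (fun k => j ⁻¹ᵁ c.D i ⊓ R k) (fun _ => inf_le_left) (hcv i) _ fun k => ?_,
    fun i i' W h h' => ?_⟩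
  · rw [ha i k]
    exact (c.comap j).isUnit_G (idx k) i _ _
  · refine Ample.eq_of_cover (fun k => W ⊓ R k) (fun _ => inf_le_left)
      (fun v hv => by obtain ⟨k, hk⟩ := hcov v; exact Opens.mem_iSup.2 ⟨k, hv, hk⟩) fun k => ?_
    have e1 := congrArg (res (le_inf (inf_le_left.trans h) inf_le_right : W ⊓ R k ≤ _)) (ha i k)
    have e2 := congrArg (res (le_inf (inf_le_left.trans h') inf_le_right : W ⊓ R k ≤ _)) (ha i' k)
    rw [res_res, Cocycle.res_G] at e1 e2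
    rw [map_mul, res_res, res_res, Cocycle.res_G, e1, e2]
    exact (c.comap j).G_trans (idx k) i i' _ _ _

theorem exists_chart (T : Trans c) (y : X) : Nonempty (Chart T y) := by
  classical
  let p := pullback.fst f u
  haveI : Flat p := MorphismProperty.pullback_fst f u ‹_›
  haveI : QuasiCompact p := MorphismProperty.pullback_fst f u ‹_›
  haveI : Surjective p := MorphismProperty.pullback_fst f u ‹_›
  obtain ⟨_, ⟨D, hD, rfl⟩, hyD, -⟩ :=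
    X.isBasis_affineOpens.exists_subset_of_mem_open (Set.mem_univ y) isOpen_univ
  have hG : ∀ z : (p ⁻¹ᵁ D : (pullback f u).Opens), ∃ (i : c.ι) (G : (pullback f u).Opens),
      IsAffineOpen G ∧ z.1 ∈ G ∧ G ≤ c.D i ∧ G ≤ p ⁻¹ᵁ D := fun z => by
    obtain ⟨i, hi⟩ := c.exists_mem z.1
    obtain ⟨_, ⟨G, hG, rfl⟩, hzG, hle⟩ := (pullback f u).isBasis_affineOpens.exists_subset_of_mem_open
      (show z.1 ∈ c.D i ⊓ p ⁻¹ᵁ D from ⟨hi, z.2⟩) (c.D i ⊓ p ⁻¹ᵁ D).2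
    exact ⟨i, G, hG, hzG, fun x hx => (hle hx).1, fun x hx => (hle hx).2⟩
  choose ix G hGa hzG hGi hGD using hG
  obtain ⟨t, ht⟩ := (QuasiCompact.isCompact_preimage (f := p) (U := (D : Set X)) D.2 hD.isCompact).elim_finite_subcover (fun z => (G z : Set ↥(pullback f u)))
    (fun z => (G z).2) fun z hz => Set.mem_iUnion.2 ⟨⟨z, hz⟩, hzG ⟨z, hz⟩⟩
  let κ := {z // z ∈ t}
  let V : Scheme.{u} := ∐ fun k : κ => (G k.1).toScheme
  haveI : ∀ k : κ, IsAffine (G k.1).toScheme := fun k => hGa k.1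
  haveI : IsAffine V := inferInstanceAs (IsAffine (∐ fun k : κ => (G k.1).toScheme))
  let j₀ : V ⟶ pullback f u := Sigma.desc fun k => (G k.1).ι
  let C := Γ(V, ⊤)
  let VC := Spec C
  let ε : VC ⟶ V := V.isoSpec.inv
  let j : VC ⟶ pullback f u := ε ≫ j₀
  let R₀ : κ → V.Opens := fun k => (Sigma.ι (fun k : κ => (G k.1).toScheme) k).opensRange
  let R : κ → VC.Opens := fun k => ε ⁻¹ᵁ R₀ k
  have hR : ∀ k, R k ≤ j ⁻¹ᵁ c.D (ix k.1) := fun k v ⟨w, hw⟩ => by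
    show j₀ (ε v) ∈ c.D (ix k.1)
    rw [← hw, ← Scheme.Hom.comp_apply, Sigma.ι_desc]
    exact hGi k.1 w.2
  have hRcov : ∀ v, ∃ k, v ∈ R k := fun v => by
    obtain ⟨k, w, hw⟩ := (sigmaOpenCover fun k : κ => (G k.1).toScheme).exists_eq (ε v)
    exact ⟨k, w, hw⟩
  have hRdisj : ∀ k k', k ≠ k' → R k ⊓ R k' ≤ ⊥ := fun k k' hne v ⟨h1, h2⟩ =>
    ((disjoint_opensRange_sigmaι (fun k : κ => (G k.1).toScheme) k k' hne).le_bot ⟨h1, h2⟩).elim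
  obtain ⟨a, hau, har⟩ := exists_units j R (fun k => ix k.1) hR hRcov hRdisj
  choose ia hia using fun i => (hau i).exists_right_inv
  -- the affine piece downstairs
  let v : VC ⟶ X := j ≫ p
  have hvD : ∀ z, v z ∈ D := fun z => by
    obtain ⟨k, w, hw⟩ := hRcov z
    show p (j₀ (ε z)) ∈ D
    rw [← hw, ← Scheme.Hom.comp_apply (Sigma.ι (fun k : κ => (G k.1).toScheme) k) j₀, Sigma.ι_desc]
    exact hGD k.1 w.2
  let l : VC ⟶ Spec Γ(X, D) := IsOpenImmersion.lift hD.fromSpec v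
    (by rintro _ ⟨z, rfl⟩; rw [hD.range_fromSpec]; exact hvD z)
  have hl : l ≫ hD.fromSpec = v := IsOpenImmersion.lift_fac _ _ _
  haveI : Flat j₀ := IsZariskiLocalAtSource.sigmaDesc fun k => inferInstance
  haveI : Flat j := inferInstance
  haveI : Flat v := inferInstance
  haveI : Flat l := by
    have : Flat (l ≫ hD.fromSpec) := hl ▸ ‹Flat v›
    exact MorphismProperty.of_postcomp (W := @Flat) (W' := @IsOpenImmersion) l hD.fromSpec inferInstance this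
  haveI : Surjective l := ⟨fun P => by
    obtain ⟨z, hz⟩ := p.surjective (hD.fromSpec P)
    obtain ⟨k, hk, hzk⟩ := Set.mem_iUnion₂.1 (ht (show p z ∈ D by rw [hz]; exact BCCoh.fromSpec_mem hD P))
    refine ⟨V.isoSpec.hom (Sigma.ι (fun k : κ => (G k.1).toScheme) ⟨k, hk⟩ ⟨z, hzk⟩),
      hD.fromSpec.isOpenEmbedding.injective ?_⟩
    rw [← Scheme.Hom.comp_apply l, hl, ← Scheme.Hom.comp_apply, ← Scheme.Hom.comp_apply]
    simp only [v, j, ε, Category.assoc, Iso.hom_inv_id_assoc]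
    erw [Sigma.ι_desc_assoc]
    exact hz⟩
  let φ := Spec.preimage l
  have hφl : Spec.map φ = l := Spec.map_preimage l
  have hφ : φ.hom.FaithfullyFlat := by
    letI : Algebra Γ(X, D) C := φ.hom.toAlgebra
    haveI : Module.Flat Γ(X, D) C := by
      have : Flat (Spec.map φ) := hφl ▸ ‹Flat l›
      exact (HasRingHomProperty.Spec_iff (P := @Flat)).1 this
    show Module.FaithfullyFlat Γ(X, D) C
    exact Module.FaithfullyFlat.of_comap_surjective fun P => by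
      obtain ⟨q, hq⟩ := l.surjective P
      exact ⟨q, by rw [← hφl] at hq; exact hq⟩
  -- the cocycle on the square
  let A : pullback v v ⟶ pullback f u := pullback.fst v v ≫ j
  let B : pullback v v ⟶ pullback f u := pullback.snd v v ≫ j
  have hAB : A ≫ p = B ≫ p := by simp only [A, B, Category.assoc]; exact pullback.condition
  let O₂ : c.ι × c.ι → (pullback v v).Opens := fun q => A ⁻¹ᵁ c.D q.1 ⊓ B ⁻¹ᵁ c.D q.2
  have eA : ∀ q, O₂ q ≤ pullback.fst v v ⁻¹ᵁ (j ⁻¹ᵁ c.D q.1) := fun q => inf_le_left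
  have eB : ∀ q, O₂ q ≤ pullback.snd v v ⁻¹ᵁ (j ⁻¹ᵁ c.D q.2) := fun q => inf_le_right
  let θ' : ∀ q, Γ(pullback v v, O₂ q) := fun q => tr T.w A B hAB q.1 q.2 (O₂ q) inf_le_left inf_le_right *
    (pullback.fst v v).appLE _ _ (eA q) (a q.1) * (pullback.snd v v).appLE _ _ (eB q) (ia q.2)
  have hθ'u : ∀ q, IsUnit (θ' q) := fun q => ((T.isUnit_tr _ _ hAB _ _ _ _ _).mul ((hau _).map _)).mul
    ((IsUnit.of_mul_eq_one _ ((mul_comm _ _).trans (hia _))).map _)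
  have hθcov : (⊤ : (pullback v v).Opens) ≤ ⨆ q, O₂ q := fun z _ => by
    obtain ⟨i, hi⟩ := c.exists_mem (A z)
    obtain ⟨k, hk⟩ := c.exists_mem (B z)
    exact Opens.mem_iSup.2 ⟨(i, k), hi, hk⟩
  obtain ⟨θ, hθ⟩ := exists_glue O₂ (O := ⊤) (fun _ => le_top) hθcov θ' (fun q r => by
    let W := O₂ q ⊓ O₂ r
    have hq : W ≤ O₂ q := inf_le_left
    have hr : W ≤ O₂ r := inf_le_right
    have e1 := T.change A B hAB q.1 r.1 q.2 r.2 W (hq.trans inf_le_left) (hr.trans inf_le_left)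
      (hq.trans inf_le_right) (hr.trans inf_le_right)
    have e2 := congrArg ((pullback.fst v v).appLE (j ⁻¹ᵁ c.D q.1 ⊓ j ⁻¹ᵁ c.D r.1) W
      (le_pre_inf (hq.trans (eA q)) (hr.trans (eA r)))) (har r.1 q.1 _ inf_le_right inf_le_left)
    have e3 := congrArg ((pullback.snd v v).appLE (j ⁻¹ᵁ c.D q.2 ⊓ j ⁻¹ᵁ c.D r.2) W
      (le_pre_inf (hq.trans (eB q)) (hr.trans (eB r)))) (har r.2 q.2 _ inf_le_right inf_le_left)
    have f1 := congrArg ((pullback.snd v v).appLE (j ⁻¹ᵁ c.D q.2) W (hq.trans (eB q))) (hia q.2)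
    have f2 := congrArg ((pullback.snd v v).appLE (j ⁻¹ᵁ c.D r.2) W (hr.trans (eB r))) (hia r.2)
    rw [map_mul, appLE_res', appLE_res',
      appLE_comap_G (pullback.fst v v) j (r := A) rfl c r.1 q.1 _ _ _ (hr.trans inf_le_left) (hq.trans inf_le_left)] at e2
    rw [map_mul, appLE_res', appLE_res',
      appLE_comap_G (pullback.snd v v) j (r := B) rfl c r.2 q.2 _ _ _ (hr.trans inf_le_right) (hq.trans inf_le_right)] at e3
    simp only [map_mul, map_one] at f1 f2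
    have g1 := (c.comap A).G_mul_G q.1 r.1 (W := W) (hq.trans inf_le_left) (hr.trans inf_le_left)
    simp only [θ', map_mul, res_appLE', res_tr]
    rw [e1, e2]
    rw [e3] at f1
    set G1 := (c.comap A).G q.1 r.1 _ _
    set G1' := (c.comap A).G r.1 q.1 _ _
    set G2 := (c.comap B).G r.2 q.2 _ _
    set t := tr T.w A B hAB r.1 r.2 W _ _
    set α := (pullback.fst v v).appLE (j ⁻¹ᵁ c.D r.1) W _ (a r.1)
    set β := (pullback.snd v v).appLE (j ⁻¹ᵁ c.D r.2) W _ (a r.2)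
    set iq := (pullback.snd v v).appLE (j ⁻¹ᵁ c.D q.2) W _ (ia q.2)
    set ir := (pullback.snd v v).appLE (j ⁻¹ᵁ c.D r.2) W _ (ia r.2)
    linear_combination (G2 * t * α * iq) * g1 + (t * α * ir) * f1 - (t * α * G2 * iq) * f2)
  have hθu : IsUnit θ := isUnit_of_res O₂ (fun _ => le_top) hθcov θ fun q => (hθ q).symm ▸ hθ'u q
  have hθval : ∀ {Z : Scheme.{u}} (s : Z ⟶ pullback v v) (ga gb : Z ⟶ VC) (hga : s ≫ pullback.fst v v = ga)
      (hgb : s ≫ pullback.snd v v = gb) (h : (ga ≫ j) ≫ p = (gb ≫ j) ≫ p) (i k : c.ι) (W : Z.Opens)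
      (ea : W ≤ (ga ≫ j) ⁻¹ᵁ c.D i) (eb : W ≤ (gb ≫ j) ⁻¹ᵁ c.D k),
      s.appLE ⊤ W le_top θ = tr T.w (ga ≫ j) (gb ≫ j) h i k W ea eb *
        ga.appLE (j ⁻¹ᵁ c.D i) W ea (a i) * gb.appLE (j ⁻¹ᵁ c.D k) W eb (ia k) := by
    intro Z s ga gb hga hgb h i k W ea eb
    subst hga hgb
    have eW : W ≤ s ⁻¹ᵁ O₂ (i, k) := le_pre_inf ea eb
    have e := congrArg (s.appLE (O₂ (i, k)) W eW) (hθ (i, k))
    rw [appLE_res'] at e
    rw [e]
    simp only [θ', map_mul, appLE_appLE]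
    rw [tr_comp s hAB h (Category.assoc _ _ _).symm (Category.assoc _ _ _).symm i k (O₂ (i, k)) _ _ W eW ea eb]
  have hc : ∀ {Z : Scheme.{u}} (t₁ t₂ t₃ : Z ⟶ VC) (s₁₂ s₂₃ s₁₃ : Z ⟶ pullback v v),
      s₁₂ ≫ pullback.fst v v = t₁ → s₁₂ ≫ pullback.snd v v = t₂ →
      s₂₃ ≫ pullback.fst v v = t₂ → s₂₃ ≫ pullback.snd v v = t₃ →
      s₁₃ ≫ pullback.fst v v = t₁ → s₁₃ ≫ pullback.snd v v = t₃ →
      s₁₃.appLE ⊤ ⊤ le_top θ = s₁₂.appLE ⊤ ⊤ le_top θ * s₂₃.appLE ⊤ ⊤ le_top θ := by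
    intro Z t₁ t₂ t₃ s₁₂ s₂₃ s₁₃ h1 h1' h2 h2' h3 h3'
    have k12 : (t₁ ≫ j) ≫ p = (t₂ ≫ j) ≫ p := by
      rw [← h1, ← h1']; simp only [Category.assoc]; exact congrArg (s₁₂ ≫ ·) pullback.condition
    have k23 : (t₂ ≫ j) ≫ p = (t₃ ≫ j) ≫ p := by
      rw [← h2, ← h2']; simp only [Category.assoc]; exact congrArg (s₂₃ ≫ ·) pullback.condition
    refine Ample.eq_of_cover (fun q : c.ι × c.ι × c.ι => (t₁ ≫ j) ⁻¹ᵁ c.D q.1 ⊓ (t₂ ≫ j) ⁻¹ᵁ c.D q.2.1 ⊓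
      (t₃ ≫ j) ⁻¹ᵁ c.D q.2.2) (fun _ => le_top) (fun w _ => by
        obtain ⟨i, hi⟩ := c.exists_mem ((t₁ ≫ j) w)
        obtain ⟨k, hk⟩ := c.exists_mem ((t₂ ≫ j) w)
        obtain ⟨m, hm⟩ := c.exists_mem ((t₃ ≫ j) w)
        exact Opens.mem_iSup.2 ⟨(i, k, m), ⟨hi, hk⟩, hm⟩) fun q => ?_
    let W := (t₁ ≫ j) ⁻¹ᵁ c.D q.1 ⊓ (t₂ ≫ j) ⁻¹ᵁ c.D q.2.1 ⊓ (t₃ ≫ j) ⁻¹ᵁ c.D q.2.2
    have w1 : W ≤ (t₁ ≫ j) ⁻¹ᵁ c.D q.1 := inf_le_left.trans inf_le_left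
    have w2 : W ≤ (t₂ ≫ j) ⁻¹ᵁ c.D q.2.1 := inf_le_left.trans inf_le_right
    have w3 : W ≤ (t₃ ≫ j) ⁻¹ᵁ c.D q.2.2 := inf_le_right
    rw [map_mul, res_appLE', res_appLE', res_appLE',
      hθval s₁₂ t₁ t₂ h1 h1' k12 q.1 q.2.1 W w1 w2, hθval s₂₃ t₂ t₃ h2 h2' k23 q.2.1 q.2.2 W w2 w3,
      hθval s₁₃ t₁ t₃ h3 h3' (k12.trans k23) q.1 q.2.2 W w1 w3,
      T.cocycle (t₁ ≫ j) (t₂ ≫ j) (t₃ ≫ j) k12 k23 q.1 q.2.1 q.2.2 W w1 w2 w3]
    have f1 := congrArg (t₂.appLE (j ⁻¹ᵁ c.D q.2.1) W w2) (hia q.2.1)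
    rw [map_mul, map_one] at f1
    set x12 := tr T.w (t₁ ≫ j) (t₂ ≫ j) _ q.1 q.2.1 W w1 w2
    set x23 := tr T.w (t₂ ≫ j) (t₃ ≫ j) _ q.2.1 q.2.2 W w2 w3
    linear_combination (-(x12 * x23 * t₁.appLE (j ⁻¹ᵁ c.D q.1) W w1 (a q.1) * t₃.appLE (j ⁻¹ᵁ c.D q.2.2) W w3 (ia q.2.2))) * f1
  obtain ⟨x, hx, ⟨q₀, hq₀, hqx⟩, hsat⟩ := FppfPic26.exists_coboundary_near φ hφ hD.fromSpec (by rw [hφl, hl]) θ hθu hc
    (hD.primeIdealOf ⟨y, hyD⟩)
  let O : VC.Opens := VC.basicOpen x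
  haveI : QuasiCompact l := inferInstance
  have hopen : IsOpen (l '' (O : Set VC)) := by
    rw [← (Flat.isQuotientMap_of_surjective l).isOpen_preimage]
    convert O.2 using 1
    ext q'
    refine ⟨fun ⟨q, hq, e⟩ => hsat q q' ?_ hq, fun h => ⟨q', h, rfl⟩⟩
    rw [← hl, Scheme.Hom.comp_apply, Scheme.Hom.comp_apply, e]
  let E : X.Opens := ⟨hD.fromSpec '' (l '' (O : Set VC)), hD.fromSpec.isOpenMap _ hopen⟩
  have hvE : ∀ z, v z = hD.fromSpec (l z) := fun z => by rw [← hl]; rfl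
  let jO : O.toScheme ⟶ pullback f u := O.ι ≫ j
  let pv : O.toScheme ⟶ E.toScheme := IsOpenImmersion.lift E.ι (jO ≫ p) (by
    rintro _ ⟨z, rfl⟩
    rw [Scheme.Opens.range_ι]
    exact ⟨l (O.ι z), ⟨O.ι z, z.2, rfl⟩, (hvE _).symm⟩)
  have hpv : pv ≫ E.ι = jO ≫ p := IsOpenImmersion.lift_fac _ _ _
  haveI : IsAffine O.toScheme := (isAffineOpen_top VC).basicOpen x
  haveI : IsAffine (Scheme.Opens.toScheme (X := X) D) := hD
  haveI : QuasiSeparatedSpace ↥(Scheme.Opens.toScheme (X := X) D) := inferInstance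
  have hED : E ≤ D := by rintro _ ⟨P, -, rfl⟩; exact BCCoh.fromSpec_mem hD P
  haveI : QuasiCompact pv := by
    haveI : QuasiCompact (pv ≫ X.homOfLE (V := (D : X.Opens)) hED) := quasiCompact_of_compactSpace _
    exact QuasiCompact.of_comp pv (X.homOfLE (V := (D : X.Opens)) hED)
  have hiu : IsUnit (res (le_top : O ≤ ⊤) x) := RingedSpace.isUnit_res_basicOpen VC.toRingedSpace x
  have eτ : ∀ i, jO ⁻¹ᵁ c.D i ≤ O.ι ⁻¹ᵁ (j ⁻¹ᵁ c.D i) := fun i => le_rfl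
  have eO : (⊤ : O.toScheme.Opens) ≤ O.ι ⁻¹ᵁ O := by rw [O.ι_preimage_self]
  refine ⟨{
    E := E
    mem := ⟨l q₀, ⟨q₀, hqx, rfl⟩, by rw [← hφl, hq₀, hD.fromSpec_primeIdealOf]⟩
    V := O.toScheme
    j := jO
    flat := inferInstance
    range := fun z => ⟨l (O.ι z), ⟨O.ι z, z.2, rfl⟩, (hvE _).symm⟩
    surj := by
      rintro _ ⟨_, ⟨q, hq, rfl⟩, rfl⟩
      exact ⟨⟨q, hq⟩, hvE q⟩
    qc := fun {Z} g hg => ?_
    τ := fun i => O.ι.appLE _ _ (eτ i) (a i) * O.ι.appLE ⊤ _ le_top x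
    τu := fun i => ((hau i).map _).mul (by
      have := (hiu.map (O.ι.appLE O ⊤ eO).hom).map (res (le_top : jO ⁻¹ᵁ c.D i ≤ ⊤))
      rwa [appLE_res', res_appLE'] at this)
    rel := ?_ }⟩
  · let g' : Z ⟶ E.toScheme := IsOpenImmersion.lift E.ι g (by
      rintro _ ⟨z, rfl⟩; rw [Scheme.Opens.range_ι]; exact hg z)
    have hg' : g' ≫ E.ι = g := IsOpenImmersion.lift_fac _ _ _
    have hw : pullback.fst (jO ≫ p) g ≫ pv = pullback.snd (jO ≫ p) g ≫ g' := by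
      refine (cancel_mono E.ι).1 ?_
      refine (Category.assoc _ _ _).trans (Eq.trans ?_ (Category.assoc _ _ _).symm)
      refine (congrArg (pullback.fst _ _ ≫ ·) hpv).trans (Eq.trans ?_ (congrArg (pullback.snd _ _ ≫ ·) hg').symm)
      exact pullback.condition
    have H : IsPullback (pullback.fst (jO ≫ p) g) (pullback.snd (jO ≫ p) g) pv g' :=
      ⟨⟨hw⟩, ⟨PullbackCone.IsLimit.mk hw (fun s => pullback.lift s.fst s.snd (by
        rw [← hpv, ← hg', reassoc_of% s.condition]))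
        (fun s => pullback.lift_fst _ _ _) (fun s => pullback.lift_snd _ _ _)
        (fun s m h1 h2 => pullback.hom_ext (by rw [pullback.lift_fst]; exact h1) (by rw [pullback.lift_snd]; exact h2))⟩⟩
    exact MorphismProperty.of_isPullback (P := @QuasiCompact) H ‹QuasiCompact pv›
  · intro Z ga gb h i k W ea eb ea' eb'
    have hg : (ga ≫ O.ι) ≫ v = (gb ≫ O.ι) ≫ v := by
      simp only [v, jO, Category.assoc] at h ⊢
      exact h
    let s : Z ⟶ pullback v v := pullback.lift (ga ≫ O.ι) (gb ≫ O.ι) hg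
    have h0 : (((ga ≫ O.ι) ≫ j) ≫ p) = ((gb ≫ O.ι) ≫ j) ≫ p := by simp only [Category.assoc]; exact hg
    have K := congrArg (res (le_top : W ≤ ⊤)) (congrArg (s.appLE ⊤ ⊤ le_top) hx)
    simp only [map_mul, appLE_appLE, res_appLE'] at K
    rw [appLE_congr (pullback.lift_fst _ _ _ : s ≫ pullback.fst v v = ga ≫ O.ι) _ le_top,
      appLE_congr (pullback.lift_snd _ _ _ : s ≫ pullback.snd v v = gb ≫ O.ι) _ le_top] at K
    have ea0 : W ≤ ((ga ≫ O.ι) ≫ j) ⁻¹ᵁ c.D i := ea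
    have eb0 : W ≤ ((gb ≫ O.ι) ≫ j) ⁻¹ᵁ c.D k := eb
    rw [hθval s (ga ≫ O.ι) (gb ≫ O.ι) (pullback.lift_fst _ _ _) (pullback.lift_snd _ _ _) h0 i k W ea0 eb0] at K
    have ht : tr T.w (ga ≫ jO) (gb ≫ jO) h i k W ea eb =
        tr T.w ((ga ≫ O.ι) ≫ j) ((gb ≫ O.ι) ≫ j) h0 i k W ea0 eb0 := rfl
    have f1 := congrArg ((gb ≫ O.ι).appLE (j ⁻¹ᵁ c.D k) W eb0) (hia k)
    rw [map_mul, map_one] at f1
    simp only [map_mul, appLE_appLE]
    rw [K, ht]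
    set t := tr T.w ((ga ≫ O.ι) ≫ j) ((gb ≫ O.ι) ≫ j) h0 i k W ea0 eb0
    linear_combination (t * (ga ≫ O.ι).appLE (j ⁻¹ᵁ c.D i) W ea0 (a i) * (ga ≫ O.ι).appLE ⊤ W le_top x) * f1

end GrothLib.FpqcPic26
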