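import Groth.Agent.Lib.FpqcPic26.Chart

/-!
# Descent of classes along flat quasi-compact coverings
-/

set_option autoImplicit false
set_option linter.all false
set_option backward.isDefEq.respectTransparency false
set_option maxHeartbeats 1000000
set_option synthInstance.maxHeartbeats 200000

universe u

open CategoryTheory CategoryTheory.Limits AlgebraicGeometry Opposite TopologicalSpace
open GrothLib.Ample GrothLib.Cube
open GrothLib.PicDescent GrothLib.RigDesc26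

noncomputable section

namespace GrothLib.FpqcPic26

variable {X S U : Scheme.{u}} {f : X ⟶ S} {u : U ⟶ S} {c : Cocycle (pullback f u)}
variable [Flat u] [QuasiCompact u] [Surjective u]

/-- The value of a frame through a chart. -/
def FrameRel {T : Trans c} {y : X} (C : Chart T y) (k : c.ι)
    (h : Γ(pullback f u, pullback.fst f u ⁻¹ᵁ C.E ⊓ c.D k)) : Prop :=
  ∀ {Z : Scheme.{u}} (a : Z ⟶ C.V) (z : Z ⟶ pullback f u)
    (e : (a ≫ C.j) ≫ pullback.fst f u = z ≫ pullback.fst f u) (i : c.ι) (W : Z.Opens)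
    (ea : W ≤ a ⁻¹ᵁ (C.j ⁻¹ᵁ c.D i)) (ez : W ≤ z ⁻¹ᵁ (pullback.fst f u ⁻¹ᵁ C.E ⊓ c.D k)),
    z.appLE _ W ez h = tr T.w (a ≫ C.j) z e i k W ea (ez.trans (z.preimage_mono inf_le_right)) *
      a.appLE (C.j ⁻¹ᵁ c.D i) W ea (C.τ i)

theorem Chart.exists_frame {T : Trans c} {y : X} (C : Chart T y) (k : c.ι) :
    ∃ h : Γ(pullback f u, pullback.fst f u ⁻¹ᵁ C.E ⊓ c.D k), IsUnit h ∧ FrameRel C k h := by
  haveI := C.flat
  let O : (pullback f u).Opens := pullback.fst f u ⁻¹ᵁ C.E ⊓ c.D k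
  let P := pullback (C.j ≫ pullback.fst f u) (O.ι ≫ pullback.fst f u)
  let pr : P ⟶ O.toScheme := pullback.snd (C.j ≫ pullback.fst f u) (O.ι ≫ pullback.fst f u)
  haveI : Flat pr := MorphismProperty.pullback_snd _ _ C.flat
  haveI : QuasiCompact pr := C.qc _ fun w => w.2.1
  haveI : Surjective pr := ⟨fun w => by
    obtain ⟨v, hv⟩ := C.surj _ (show pullback.fst f u (O.ι w) ∈ C.E from w.2.1)
    obtain ⟨r, -, hr⟩ := Scheme.Pullback.exists_preimage_pullback (f := C.j ≫ pullback.fst f u)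
      (g := O.ι ≫ pullback.fst f u) v w hv
    exact ⟨r, hr⟩⟩
  let A : P ⟶ C.V := pullback.fst (C.j ≫ pullback.fst f u) (O.ι ≫ pullback.fst f u)
  have hcond : (A ≫ C.j) ≫ pullback.fst f u = (pr ≫ O.ι) ≫ pullback.fst f u := by
    rw [Category.assoc, Category.assoc]; exact pullback.condition
  have epr : ∀ W : P.Opens, W ≤ (pr ≫ O.ι) ⁻¹ᵁ c.D k := fun W r _ => (pr r).2.2
  let Pi : c.ι → P.Opens := fun i => A ⁻¹ᵁ (C.j ⁻¹ᵁ c.D i)
  let Hi : ∀ i, Γ(P, Pi i) := fun i =>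
    tr T.w (A ≫ C.j) (pr ≫ O.ι) hcond i k (Pi i) le_rfl (epr _) * A.appLE (C.j ⁻¹ᵁ c.D i) (Pi i) le_rfl (C.τ i)
  have hPcov : (⊤ : P.Opens) ≤ ⨆ i, Pi i := fun r _ => by
    obtain ⟨i, hi⟩ := c.exists_mem (C.j (A r))
    exact Opens.mem_iSup.2 ⟨i, hi⟩
  obtain ⟨H, hH⟩ := exists_glue Pi (O := ⊤) (fun _ => le_top) hPcov Hi (fun i i' => by
    have h1 : Pi i ⊓ Pi i' ≤ Pi i := inf_le_left
    have h2 : Pi i ⊓ Pi i' ≤ Pi i' := inf_le_right
    simp only [Hi, map_mul, res_appLE', res_tr]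
    rw [T.cocycle (A ≫ C.j) (A ≫ C.j) (pr ≫ O.ι) rfl hcond i i' k _ h1 h2 (epr _),
      C.rel A A rfl i i' _ h1 h2 h1 h2]
    ring)
  have hHu : IsUnit H := isUnit_of_res Pi (fun _ => le_top) hPcov H fun i => (hH i).symm ▸
    (T.isUnit_tr _ _ hcond i k _ _ _).mul ((C.τu i).map _)
  have hHval : ∀ {Z : Scheme.{u}} (r : Z ⟶ P) (a : Z ⟶ C.V) (z : Z ⟶ pullback f u) (hra : r ≫ A = a)
      (hrz : r ≫ pr ≫ O.ι = z) (e : (a ≫ C.j) ≫ pullback.fst f u = z ≫ pullback.fst f u) (i : c.ι) (W : Z.Opens)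
      (ea : W ≤ a ⁻¹ᵁ (C.j ⁻¹ᵁ c.D i)) (ez : W ≤ z ⁻¹ᵁ c.D k),
      r.appLE ⊤ W le_top H = tr T.w (a ≫ C.j) z e i k W ea ez * a.appLE (C.j ⁻¹ᵁ c.D i) W ea (C.τ i) := by
    intro Z r a z hra hrz e i W ea ez
    subst hra hrz
    have eW : W ≤ r ⁻¹ᵁ Pi i := ea
    have h := congrArg (r.appLE (Pi i) W eW) (hH i)
    rw [appLE_res'] at h
    rw [h]
    simp only [Hi, map_mul, appLE_appLE]
    rw [tr_comp r hcond e (Category.assoc _ _ _).symm rfl i k (Pi i) le_rfl (epr _) W eW ea ez]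
  have hinv : ∀ {Z : Scheme.{u}} (g₁ g₂ : Z ⟶ P) (e₁ : (⊤ : Z.Opens) ≤ g₁ ⁻¹ᵁ (pr ⁻¹ᵁ ⊤))
      (e₂ : (⊤ : Z.Opens) ≤ g₂ ⁻¹ᵁ (pr ⁻¹ᵁ ⊤)), g₁ ≫ pr = g₂ ≫ pr →
      g₁.appLE _ ⊤ e₁ H = g₂.appLE _ ⊤ e₂ H := by
    intro Z g₁ g₂ e₁ e₂ hg
    refine Ample.eq_of_cover (fun q : c.ι × c.ι => g₁ ⁻¹ᵁ Pi q.1 ⊓ g₂ ⁻¹ᵁ Pi q.2) (fun _ => le_top) (fun w _ => by
      obtain ⟨i, hi⟩ := c.exists_mem (C.j (A (g₁ w)))
      obtain ⟨i', hi'⟩ := c.exists_mem (C.j (A (g₂ w)))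
      exact Opens.mem_iSup.2 ⟨(i, i'), hi, hi'⟩) fun q => ?_
    have hz : g₁ ≫ pr ≫ O.ι = g₂ ≫ pr ≫ O.ι := by rw [← Category.assoc, hg, Category.assoc]
    have h1 : ((g₁ ≫ A) ≫ C.j) ≫ pullback.fst f u = (g₂ ≫ pr ≫ O.ι) ≫ pullback.fst f u := by
      rw [← hz, Category.assoc g₁ A, Category.assoc g₁, hcond, ← Category.assoc]
    have h2 : ((g₂ ≫ A) ≫ C.j) ≫ pullback.fst f u = (g₂ ≫ pr ≫ O.ι) ≫ pullback.fst f u := by
      rw [Category.assoc g₂ A, Category.assoc g₂, hcond, ← Category.assoc]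
    let W := g₁ ⁻¹ᵁ Pi q.1 ⊓ g₂ ⁻¹ᵁ Pi q.2
    have w1 : W ≤ (g₁ ≫ A) ⁻¹ᵁ (C.j ⁻¹ᵁ c.D q.1) := inf_le_left
    have w2 : W ≤ (g₂ ≫ A) ⁻¹ᵁ (C.j ⁻¹ᵁ c.D q.2) := inf_le_right
    have wz : W ≤ (g₂ ≫ pr ≫ O.ι) ⁻¹ᵁ c.D k := fun w _ => epr ⊤ (Set.mem_univ (g₂ w))
    rw [res_appLE', res_appLE']
    erw [hHval g₁ _ _ rfl hz h1 q.1 W w1 wz, hHval g₂ _ _ rfl rfl h2 q.2 W w2 wz]
    rw [T.cocycle _ _ _ (h1.trans h2.symm) h2 q.1 q.2 k W w1 w2 wz,
      C.rel (g₁ ≫ A) (g₂ ≫ A) (h1.trans h2.symm) q.1 q.2 W w1 w2 w1 w2]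
    ring
  obtain ⟨s, hs⟩ := (sections pr ⊤).2 H hinv
  have eO : (⊤ : O.toScheme.Opens) ≤ O.ι ⁻¹ᵁ O := by rw [O.ι_preimage_self]
  obtain ⟨h, hh⟩ := (bijective_ι_appLE O eO).2 s
  refine ⟨h, ?_, ?_⟩
  · have hsu : IsUnit s := by
      obtain ⟨iH, hiH⟩ := hHu.exists_right_inv
      obtain ⟨s', hs'⟩ := (sections pr ⊤).2 iH fun {Z} g₁ g₂ e₁ e₂ hg => by
        have f1 := congrArg (g₁.appLE _ ⊤ e₁) hiH
        have f2 := congrArg (g₂.appLE _ ⊤ e₂) hiH
        erw [map_mul, map_one] at f1 f2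
        rw [hinv g₁ g₂ e₁ e₂ hg] at f1
        exact (IsUnit.of_mul_eq_one _ f2).mul_left_cancel (f1.trans f2.symm)
      refine IsUnit.of_mul_eq_one s' ((sections pr ⊤).1 ?_)
      rw [map_mul, map_one, hs, hs']
      exact hiH
    let E : Γ(pullback f u, O) ≃+* Γ(O.toScheme, ⊤) :=
      RingEquiv.ofBijective (O.ι.appLE O ⊤ eO).hom (bijective_ι_appLE O eO)
    have h2 : IsUnit (E h) := (congrArg IsUnit hh).mpr hsu
    have h3 : IsUnit (E.symm (E h)) := h2.map E.symm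
    rwa [E.symm_apply_apply] at h3
  · intro Z a z e i W ea ez
    have eW : (⊤ : W.toScheme.Opens) ≤ W.ι ⁻¹ᵁ W := by rw [W.ι_preimage_self]
    refine (bijective_ι_appLE W eW).1 ?_
    rw [map_mul, appLE_appLE, appLE_appLE]
    let z' : W.toScheme ⟶ O.toScheme := IsOpenImmersion.lift O.ι (W.ι ≫ z) (by
      rintro _ ⟨w, rfl⟩; rw [Scheme.Opens.range_ι]; exact ez w.2)
    have hz' : z' ≫ O.ι = W.ι ≫ z := IsOpenImmersion.lift_fac _ _ _
    have e' : ((W.ι ≫ a) ≫ C.j) ≫ pullback.fst f u = (W.ι ≫ z) ≫ pullback.fst f u := by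
      simp only [Category.assoc] at e ⊢; rw [e]
    let r : W.toScheme ⟶ P := pullback.lift (W.ι ≫ a) z' (by
      rw [← Category.assoc, e', ← Category.assoc z', hz'])
    have hrA : r ≫ A = W.ι ≫ a := pullback.lift_fst _ _ _
    have hrp : r ≫ pr = z' := pullback.lift_snd _ _ _
    rw [tr_comp W.ι e e' (Category.assoc _ _ _).symm rfl i k W ea (ez.trans (z.preimage_mono inf_le_right)) ⊤ eW
        (fun w _ => ea w.2) (fun w _ => (ez w.2).2),
      ← hHval r _ _ hrA (by rw [← Category.assoc, hrp, hz']) e' i ⊤ (fun w _ => ea w.2) (fun w _ => (ez w.2).2)]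
    rw [← hs, Scheme.Hom.app_eq_appLE]
    erw [appLE_appLE, ← hh, appLE_appLE, appLE_congr (show (r ≫ pr) ≫ O.ι = W.ι ≫ z by rw [hrp, hz']) _
      (fun w _ => ez w.2)]

/-- Values of a frame at two points over the same point. -/
theorem Chart.frame_pair {T : Trans c} {y : X} (C : Chart T y) {k k' : c.ι}
    {h : Γ(pullback f u, pullback.fst f u ⁻¹ᵁ C.E ⊓ c.D k)} {h' : Γ(pullback f u, pullback.fst f u ⁻¹ᵁ C.E ⊓ c.D k')}
    (hh : FrameRel C k h) (hh' : FrameRel C k' h')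
    {Z : Scheme.{u}} (z z' : Z ⟶ pullback f u) (e : z ≫ pullback.fst f u = z' ≫ pullback.fst f u)
    (ez : (⊤ : Z.Opens) ≤ z ⁻¹ᵁ (pullback.fst f u ⁻¹ᵁ C.E ⊓ c.D k))
    (ez' : (⊤ : Z.Opens) ≤ z' ⁻¹ᵁ (pullback.fst f u ⁻¹ᵁ C.E ⊓ c.D k')) :
    z'.appLE _ ⊤ ez' h' = z.appLE _ ⊤ ez h *
      tr T.w z z' e k k' ⊤ (ez.trans (z.preimage_mono inf_le_right)) (ez'.trans (z'.preimage_mono inf_le_right)) := by
  haveI := C.flat
  have hzE : ∀ w, (z ≫ pullback.fst f u) w ∈ C.E := fun w => (ez (Set.mem_univ w)).1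
  let pr := pullback.snd (C.j ≫ pullback.fst f u) (z ≫ pullback.fst f u)
  haveI : Flat pr := MorphismProperty.pullback_snd _ _ C.flat
  haveI : QuasiCompact pr := C.qc _ hzE
  haveI : Surjective pr := ⟨fun w => by
    obtain ⟨v, hv⟩ := C.surj _ (hzE w)
    obtain ⟨r, -, hr⟩ := Scheme.Pullback.exists_preimage_pullback (f := C.j ≫ pullback.fst f u)
      (g := z ≫ pullback.fst f u) v w hv
    exact ⟨r, hr⟩⟩
  let A := pullback.fst (C.j ≫ pullback.fst f u) (z ≫ pullback.fst f u)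
  have h1 : (A ≫ C.j) ≫ pullback.fst f u = (pr ≫ z) ≫ pullback.fst f u := by
    rw [Category.assoc, Category.assoc]; exact pullback.condition
  have h2 : (pr ≫ z) ≫ pullback.fst f u = (pr ≫ z') ≫ pullback.fst f u := by
    rw [Category.assoc, Category.assoc]; exact congrArg (pr ≫ ·) e
  refine injective_appLE pr ?_
  rw [map_mul, appLE_appLE, appLE_appLE,
    tr_comp pr e h2 rfl rfl k k' ⊤ _ _ ⊤ le_top (fun w _ => (ez (Set.mem_univ (pr w))).2)
      (fun w _ => (ez' (Set.mem_univ (pr w))).2)]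
  refine Ample.eq_of_cover (fun i => A ⁻¹ᵁ (C.j ⁻¹ᵁ c.D i)) (fun _ => le_top) (fun w _ => by
    obtain ⟨i, hi⟩ := c.exists_mem (C.j (A w))
    exact Opens.mem_iSup.2 ⟨i, hi⟩) fun i => ?_
  rw [map_mul, res_appLE', res_appLE', res_tr,
    hh A (pr ≫ z) h1 i _ le_rfl (fun w _ => ez (Set.mem_univ (pr w))),
    hh' A (pr ≫ z') (h1.trans h2) i _ le_rfl (fun w _ => ez' (Set.mem_univ (pr w))),
    T.cocycle _ _ _ h1 h2 i k k' (A ⁻¹ᵁ (C.j ⁻¹ᵁ c.D i)) le_rfl (fun w _ => (ez (Set.mem_univ (pr w))).2)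
      (fun w _ => (ez' (Set.mem_univ (pr w))).2)]
  ring

/-- **Descent**: a class with transition units comes from downstairs. -/
theorem exists_descend (T : Trans c) : ∃ n : Pic X, pull (pullback.fst f u) n = cls c := by
  classical
  haveI : Flat (pullback.fst f u) := MorphismProperty.pullback_fst f u ‹_›
  haveI : QuasiCompact (pullback.fst f u) := MorphismProperty.pullback_fst f u ‹_›
  haveI : Surjective (pullback.fst f u) := MorphismProperty.pullback_fst f u ‹_›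
  let p := pullback.fst f u
  have Ch := fun y => (exists_chart T y).some
  choose h hu hh using fun y k => (Ch y).exists_frame k
  choose ih hih using fun y k => (hu y k).exists_right_inv
  let O : X → c.ι → (pullback f u).Opens := fun y k => pullback.fst f u ⁻¹ᵁ (Ch y).E ⊓ c.D k
  -- change of the piece
  have hk : ∀ (y : X) (k k' : c.ι) (W : (pullback f u).Opens) (e : W ≤ O y k) (e' : W ≤ O y k'),
      res e' (h y k') = res e (h y k) * c.G k k' (e.trans inf_le_right) (e'.trans inf_le_right) := by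
    intro y k k' W e e'
    have eW : (⊤ : W.toScheme.Opens) ≤ W.ι ⁻¹ᵁ W := by rw [W.ι_preimage_self]
    refine (bijective_ι_appLE W eW).1 ?_
    rw [map_mul, appLE_res', appLE_res', (Ch y).frame_pair (hh y k) (hh y k') W.ι W.ι rfl
      (eW.trans (W.ι.preimage_mono e)) (eW.trans (W.ι.preimage_mono e')), T.diag,
      ← appLE_G' c W.ι k k' (e.trans inf_le_right) (e'.trans inf_le_right) eW]
  -- the cocycle downstairs
  have hgl : ∀ y y', ∃ g : Γ(pullback f u, pullback.fst f u ⁻¹ᵁ ((Ch y).E ⊓ (Ch y').E)),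
      ∀ k, res inf_le_left g * res (le_inf (inf_le_left.trans ((pullback.fst f u).preimage_mono inf_le_right))
          inf_le_right) (h y' k) =
        (res (le_inf (inf_le_left.trans ((pullback.fst f u).preimage_mono inf_le_left)) inf_le_right) (h y k) :
          Γ(pullback f u, pullback.fst f u ⁻¹ᵁ ((Ch y).E ⊓ (Ch y').E) ⊓ c.D k)) := by
    intro y y'
    let P := pullback.fst f u ⁻¹ᵁ ((Ch y).E ⊓ (Ch y').E)
    have l1 : ∀ k, P ⊓ c.D k ≤ O y k := fun k =>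
      le_inf (inf_le_left.trans ((pullback.fst f u).preimage_mono inf_le_left)) inf_le_right
    have l2 : ∀ k, P ⊓ c.D k ≤ O y' k := fun k =>
      le_inf (inf_le_left.trans ((pullback.fst f u).preimage_mono inf_le_right)) inf_le_right
    obtain ⟨g, hg⟩ := exists_glue (fun k => P ⊓ c.D k) (O := P) (fun _ => inf_le_left)
      (fun x hx => by obtain ⟨k, hk'⟩ := c.exists_mem x; exact Opens.mem_iSup.2 ⟨k, hx, hk'⟩)
      (fun k => res (l1 k) (h y k) * res (l2 k) (ih y' k)) (fun k k' => by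
        let W := (P ⊓ c.D k) ⊓ (P ⊓ c.D k')
        have a1 := hk y k k' W (inf_le_left.trans (l1 k)) (inf_le_right.trans (l1 k'))
        have a2 := hk y' k k' W (inf_le_left.trans (l2 k)) (inf_le_right.trans (l2 k'))
        have f1 := congrArg (res (inf_le_left.trans (l2 k) : W ≤ O y' k)) (hih y' k)
        have f2 := congrArg (res (inf_le_right.trans (l2 k') : W ≤ O y' k')) (hih y' k')
        simp only [map_mul, map_one] at f1 f2
        simp only [map_mul, res_res]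
        rw [a1]
        rw [a2] at f2
        set G := c.G k k' _ _
        set H := res (_ : W ≤ O y k) (h y k)
        set H' := res (_ : W ≤ O y' k) (h y' k)
        set I' := res (_ : W ≤ O y' k) (ih y' k)
        set J' := res (_ : W ≤ O y' k') (ih y' k')
        linear_combination (-(H * I')) * f2 + (H * G * J') * f1)
    refine ⟨g, fun k => ?_⟩
    have f1 := congrArg (res (l2 k)) (hih y' k)
    rw [map_mul, map_one] at f1
    rw [hg k]
    linear_combination (res (l1 k) (h y k)) * f1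
  choose g hg using hgl
  have hg' : ∀ (y y' : X) (k : c.ι) (W : (pullback f u).Opens) (eP : W ≤ pullback.fst f u ⁻¹ᵁ ((Ch y).E ⊓ (Ch y').E))
      (e : W ≤ O y k) (e' : W ≤ O y' k), res eP (g y y') * res e' (h y' k) = res e (h y k) := by
    intro y y' k W eP e e'
    have := congrArg (res (le_inf eP (e.trans inf_le_right) : W ≤ _ ⊓ c.D k)) (hg y y' k)
    rw [map_mul, res_res, res_res, res_res] at this
    exact this
  have hsec := fun V => sections (pullback.fst f u) V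
  have hinv : ∀ y y', ∃ s, (pullback.fst f u).app ((Ch y).E ⊓ (Ch y').E) s = g y y' := fun y y' => by
    refine (hsec _).2 _ fun {Z} z z' ez ez' e => ?_
    refine Ample.eq_of_cover (fun q : c.ι × c.ι => z ⁻¹ᵁ c.D q.1 ⊓ z' ⁻¹ᵁ c.D q.2) (fun _ => le_top) (fun w _ => by
      obtain ⟨k, hk'⟩ := c.exists_mem (z w)
      obtain ⟨k', hk''⟩ := c.exists_mem (z' w)
      exact Opens.mem_iSup.2 ⟨(k, k'), hk', hk''⟩) fun q => ?_
    let W := z ⁻¹ᵁ c.D q.1 ⊓ z' ⁻¹ᵁ c.D q.2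
    have eW : (⊤ : W.toScheme.Opens) ≤ W.ι ⁻¹ᵁ W := by rw [W.ι_preimage_self]
    refine (bijective_ι_appLE W eW).1 ?_
    rw [appLE_res', appLE_res', appLE_appLE, appLE_appLE]
    have e' : (W.ι ≫ z) ≫ pullback.fst f u = (W.ι ≫ z') ≫ pullback.fst f u := by
      rw [Category.assoc, Category.assoc, e]
    let P := pullback.fst f u ⁻¹ᵁ ((Ch y).E ⊓ (Ch y').E)
    have eP : (⊤ : W.toScheme.Opens) ≤ (W.ι ≫ z) ⁻¹ᵁ P := fun w _ => ez (Set.mem_univ (W.ι w))
    have eP' : (⊤ : W.toScheme.Opens) ≤ (W.ι ≫ z') ⁻¹ᵁ P := fun w _ => ez' (Set.mem_univ (W.ι w))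
    have ey : (⊤ : W.toScheme.Opens) ≤ (W.ι ≫ z) ⁻¹ᵁ O y q.1 := fun w hw => ⟨(eP hw).1, w.2.1⟩
    have ey₂ : (⊤ : W.toScheme.Opens) ≤ (W.ι ≫ z) ⁻¹ᵁ O y' q.1 := fun w hw => ⟨(eP hw).2, w.2.1⟩
    have ez₁ : (⊤ : W.toScheme.Opens) ≤ (W.ι ≫ z') ⁻¹ᵁ O y q.2 := fun w hw => ⟨(eP' hw).1, w.2.2⟩
    have ez₂ : (⊤ : W.toScheme.Opens) ≤ (W.ι ≫ z') ⁻¹ᵁ O y' q.2 := fun w hw => ⟨(eP' hw).2, w.2.2⟩
    have ek : ∀ (γ : W.toScheme ⟶ pullback f u) (k : c.ι) (a : (⊤ : W.toScheme.Opens) ≤ γ ⁻¹ᵁ P)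
        (b : (⊤ : W.toScheme.Opens) ≤ γ ⁻¹ᵁ O y k) (b' : (⊤ : W.toScheme.Opens) ≤ γ ⁻¹ᵁ O y' k),
        γ.appLE _ ⊤ a (g y y') * γ.appLE _ ⊤ b' (h y' k) = γ.appLE _ ⊤ b (h y k) := by
      intro γ k a b b'
      have := congrArg (γ.appLE _ ⊤ (le_pre_inf (le_pre_inf a b) b'))
        (hg' y y' k (P ⊓ O y k ⊓ O y' k) (inf_le_left.trans inf_le_left) (inf_le_left.trans inf_le_right) inf_le_right)
      rw [map_mul, appLE_res', appLE_res', appLE_res'] at this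
      exact this
    have q1 := ek (W.ι ≫ z) q.1 eP ey ey₂
    have q2 := ek (W.ι ≫ z') q.2 eP' ez₁ ez₂
    rw [(Ch y).frame_pair (hh y q.1) (hh y q.2) (W.ι ≫ z) (W.ι ≫ z') e' ey ez₁,
      (Ch y').frame_pair (hh y' q.1) (hh y' q.2) (W.ι ≫ z) (W.ι ≫ z') e' ey₂ ez₂, ← q1] at q2
    refine (((hu y' q.1).map ((W.ι ≫ z).appLE _ ⊤ ey₂).hom).mul (T.isUnit_tr (W.ι ≫ z) (W.ι ≫ z') e' q.1 q.2 ⊤
      (fun w _ => w.2.1) (fun w _ => w.2.2))).mul_right_cancel ?_
    linear_combination -q2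
  choose s hs using hinv
  have hres : ∀ (y y' : X) (V : X.Opens) (e : V ≤ (Ch y).E) (e' : V ≤ (Ch y').E) (k : c.ι)
      (W : (pullback f u).Opens) (eW : W ≤ pullback.fst f u ⁻¹ᵁ V) (ek : W ≤ c.D k),
      res eW ((pullback.fst f u).app V (res (le_inf e e') (s y y'))) *
          res (le_inf (eW.trans ((pullback.fst f u).preimage_mono e')) ek : W ≤ O y' k) (h y' k) =
        res (le_inf (eW.trans ((pullback.fst f u).preimage_mono e)) ek : W ≤ O y k) (h y k) := by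
    intro y y' V e e' k W eW ek
    have h1 := congrArg (res (eW.trans ((pullback.fst f u).preimage_mono (le_inf e e')))) (hs y y')
    rw [Scheme.Hom.app_eq_appLE, res_appLE'] at h1
    rw [Scheme.Hom.app_eq_appLE, res_appLE', appLE_res', h1]
    exact hg' y y' k W _ _ _
  have hcov : ∀ V : X.Opens, pullback.fst f u ⁻¹ᵁ V ≤ ⨆ k, pullback.fst f u ⁻¹ᵁ V ⊓ c.D k := fun V x hx => by
    obtain ⟨k, hk'⟩ := c.exists_mem x
    exact Opens.mem_iSup.2 ⟨k, hx, hk'⟩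
  let c' : Cocycle X :=
    { ι := X
      D := fun y => (Ch y).E
      g := s
      cover := eq_top_iff.mpr fun y _ => Opens.mem_iSup.mpr ⟨y, (Ch y).mem⟩
      self := fun y V e => (hsec V).1 (Ample.eq_of_cover (fun k => pullback.fst f u ⁻¹ᵁ V ⊓ c.D k)
        (fun _ => inf_le_left) (hcov V) fun k => by
          rw [map_one, map_one]
          refine ((hu y k).map (res (le_inf (inf_le_left.trans ((pullback.fst f u).preimage_mono e)) inf_le_right :
            pullback.fst f u ⁻¹ᵁ V ⊓ c.D k ≤ O y k))).mul_right_cancel ?_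
          rw [hres y y V e e k _ inf_le_left inf_le_right, one_mul])
      change := fun i j l V hi hj hl => (hsec V).1 (Ample.eq_of_cover (fun k => pullback.fst f u ⁻¹ᵁ V ⊓ c.D k)
        (fun _ => inf_le_left) (hcov V) fun k => by
          refine ((hu l k).map (res (le_inf (inf_le_left.trans ((pullback.fst f u).preimage_mono hl)) inf_le_right :
            pullback.fst f u ⁻¹ᵁ V ⊓ c.D k ≤ O l k))).mul_right_cancel ?_
          rw [map_mul, map_mul, hres i l V hi hl k _ inf_le_left inf_le_right, mul_assoc,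
            hres j l V hj hl k _ inf_le_left inf_le_right, hres i j V hi hj k _ inf_le_left inf_le_right]) }
  refine ⟨cls c', ?_⟩
  let e : Cocycle (pullback f u) :=
    { ι := X × c.ι
      D := fun q => O q.1 q.2
      g := fun q q' => c.G q.2 q'.2 (inf_le_left.trans inf_le_right) (inf_le_right.trans inf_le_right)
      cover := eq_top_iff.mpr fun x _ => by
        obtain ⟨k, hk'⟩ := c.exists_mem x
        exact Opens.mem_iSup.mpr ⟨(pullback.fst f u x, k), (Ch _).mem, hk'⟩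
      self := fun q W hW => by rw [Cocycle.res_G]; exact c.G_self _ _ _
      change := fun q q' q'' W hq hq' hq'' => by
        simp only [Cocycle.res_G]
        exact c.G_trans q.2 q'.2 q''.2 (hq.trans inf_le_right) (hq'.trans inf_le_right) (hq''.trans inf_le_right) }
  have heG : ∀ (q q' : e.ι) (W : (pullback f u).Opens) (a : W ≤ O q.1 q.2) (b : W ≤ O q'.1 q'.2),
      e.G q q' a b = c.G q.2 q'.2 (a.trans inf_le_right) (b.trans inf_le_right) := fun q q' W a b =>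
    c.res_G q.2 q'.2 (inf_le_left.trans inf_le_right : O q.1 q.2 ⊓ O q'.1 q'.2 ≤ c.D q.2)
      (inf_le_right.trans inf_le_right : O q.1 q.2 ⊓ O q'.1 q'.2 ≤ c.D q'.2) _
  have h1 : cls e = cls c := Quotient.sound (eqv_of_map (c := e) (c' := c) (fun q => q.2) (fun q => inf_le_right)
    (fun _ => 1) (fun _ => isUnit_one) fun q q' W a b => by rw [map_one, map_one, one_mul, mul_one, heG])
  have h2 : cls e = cls (c'.comap (pullback.fst f u)) :=
    Quotient.sound (eqv_of_map (c := e) (c' := c'.comap (pullback.fst f u)) (fun q => q.1) (fun q => inf_le_left)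
      (fun q => h q.1 q.2) (fun q => hu _ _) fun q q' W a b => by
      have a' : W ≤ pullback.fst f u ⁻¹ᵁ (Ch q.1).E := a.trans inf_le_left
      have b' : W ≤ pullback.fst f u ⁻¹ᵁ (Ch q'.1).E := b.trans inf_le_left
      have k1 := hk q'.1 q.2 q'.2 W (le_inf b' (a.trans inf_le_right)) b
      have hG : (c'.comap (pullback.fst f u)).G q.1 q'.1 a' b' =
          res (le_pre_inf a' b') (g q.1 q'.1) := by
        rw [← hs, Scheme.Hom.app_eq_appLE, res_appLE', comap_G']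
      have k2 := hg' q.1 q'.1 q.2 W (le_pre_inf a' b') a (le_inf b' (a.trans inf_le_right))
      rw [heG, hG, k1, ← k2]
      ring)
  rw [pull_cls, ← h2, h1]

end GrothLib.FpqcPic26
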