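import Groth.Agent.Lib.FpqcPic26.Descent
import Groth.Agent.Lib.Seesaw26.Descent
import Groth.Agent.Lib.RigDesc26.Pic

/-!
# Exactness of the Picard group modulo the base along flat quasi-compact coverings
-/

set_option autoImplicit false
set_option linter.all false
set_option backward.isDefEq.respectTransparency false
set_option maxHeartbeats 1000000
set_option synthInstance.maxHeartbeats 200000

universe u

open CategoryTheory CategoryTheory.Limits AlgebraicGeometry Opposite TopologicalSpace
open GrothLib.Ample GrothLib.Cube
open GrothLib.PicDescent (sec q₁ q₂)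

noncomputable section

namespace GrothLib.FpqcPic26

variable {X S U : Scheme.{u}} (f : X ⟶ S) [QuasiCompact f] [QuasiSeparated f] (m : S ⟶ X) (hm : m ≫ f = 𝟙 S)
  (hf : ∀ W : S.Opens, Function.Bijective (f.app W)) (u : U ⟶ S) [Flat u] [QuasiCompact u] [Surjective u]

include hm hf in
/-- A class descends, up to the base, when its two pullbacks to the square differ by a class from the base. -/
theorem exists_descend_mod_base (x : Pic (pullback f u)) (d : Pic (pullback u u))
    (h : pull (q₁ f u) x = pull (q₂ f u) x * pull (pullback.snd f (pullback.fst u u ≫ u)) d) :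
    ∃ (n : Pic X) (e : Pic U), x = pull (pullback.fst f u) n * pull (pullback.snd f u) e := by
  let σ : U ⟶ pullback f u := sec f m hm u
  let x' := x * (pull (pullback.snd f u) (pull σ x))⁻¹
  have hσ : σ ≫ pullback.snd f u = 𝟙 U := pullback.lift_snd _ _ _
  have hx' : pull σ x' = 1 := by rw [map_mul, map_inv, pull_comp σ (pullback.snd f u), hσ, pull_id, mul_inv_cancel]
  have e1 : q₁ f u ≫ pullback.snd f u = pullback.snd f _ ≫ pullback.fst u u := pullback.lift_snd _ _ _
  have e2 : q₂ f u ≫ pullback.snd f u = pullback.snd f _ ≫ pullback.snd u u := pullback.lift_snd _ _ _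
  let d' := d * (pull (pullback.fst u u) (pull σ x))⁻¹ * pull (pullback.snd u u) (pull σ x)
  have h' : pull (q₁ f u) x' = pull (q₂ f u) x' * pull (pullback.snd f (pullback.fst u u ≫ u)) d' := by
    simp only [x', d', map_mul, map_inv, pull_comp _ (pullback.snd f u), e1, e2, ← pull_comp (pullback.snd f _)]
    rw [h]
    apply Additive.ofMul.injective
    simp only [ofMul_mul, ofMul_inv]
    abel
  let σ₂ : pullback u u ⟶ pullback f (pullback.fst u u ≫ u) := sec f m hm _
  have hσ₂ : σ₂ ≫ pullback.snd f _ = 𝟙 _ := pullback.lift_snd _ _ _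
  have hxx : x = x' * pull (pullback.snd f u) (pull σ x) := (inv_mul_cancel_right _ _).symm
  clear_value x' d'
  have hd' : d' = 1 := by
    have k1 : σ₂ ≫ q₁ f u = pullback.fst u u ≫ σ := by
      refine pullback.hom_ext ?_ ?_ <;> simp [σ₂, σ, sec, q₁] <;> exact Category.id_comp _
    have k2 : σ₂ ≫ q₂ f u = pullback.snd u u ≫ σ := by
      refine pullback.hom_ext ?_ ?_ <;> simp [σ₂, σ, sec, q₂, pullback.condition] <;> exact Category.id_comp _
    have h2 := congrArg (pull σ₂) h'
    rw [map_mul, pull_comp, pull_comp, pull_comp, k1, k2, hσ₂, pull_id, ← pull_comp, ← pull_comp, hx', map_one,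
      map_one, one_mul] at h2
    exact h2.symm
  rw [hd', map_one, mul_one] at h'
  obtain ⟨n, hn⟩ : ∃ n, pull (pullback.fst f u) n = x' := by
    revert hx' h'
    generalize x' = y
    induction y using Quotient.ind with
    | _ c =>
      intro hx' h'
      obtain ⟨T⟩ := exists_trans (f := f) (u := u) m hm (fun w hw => by
        subst hw
        exact Seesaw26.bijective_app_of_flat_baseChange f hf _ ⊤) c hx' h'
      exact exists_descend T
  exact ⟨n, pull σ x, by rw [hn]; exact hxx⟩

end GrothLib.FpqcPic26
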