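import Groth.Agent.Lib.RigDesc26.Main
import Groth.Agent.Lib.GrpdQuot.FppfGeom
import Mathlib.AlgebraicGeometry.Sites.Fpqc

/-!
# Functions descend along flat quasi-compact surjections
-/

set_option autoImplicit false
set_option linter.all false
set_option backward.isDefEq.respectTransparency false

universe u

open CategoryTheory CategoryTheory.Limits AlgebraicGeometry Opposite TopologicalSpace
open GrothLib.Ample GrothLib.GrpdQuot

noncomputable section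

namespace GrothLib.FpqcPic26

variable {X Y : Scheme.{u}} (q : X ⟶ Y) [Flat q] [QuasiCompact q] [Surjective q]

/-- Functions on opens descend along flat quasi-compact surjections. -/
theorem sections (U : Y.Opens) :
    Function.Injective (q.app U) ∧ ∀ f : Γ(X, q ⁻¹ᵁ U),
      (∀ {Z : Scheme.{u}} (g₁ g₂ : Z ⟶ X) (e₁ : ⊤ ≤ g₁ ⁻¹ᵁ (q ⁻¹ᵁ U)) (e₂ : ⊤ ≤ g₂ ⁻¹ᵁ (q ⁻¹ᵁ U)),
        g₁ ≫ q = g₂ ≫ q → g₁.appLE _ ⊤ e₁ f = g₂.appLE _ ⊤ e₂ f) → ∃ s, q.app U s = f := by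
  let W := q ⁻¹ᵁ U
  have eV : (⊤ : W.toScheme.Opens) ≤ W.ι ⁻¹ᵁ W := by rw [W.ι_preimage_self]
  have eU : (⊤ : U.toScheme.Opens) ≤ U.ι ⁻¹ᵁ U := by rw [U.ι_preimage_self]
  have hiso : ∀ {Z : Scheme.{u}} (W : Z.Opens) (e : (⊤ : W.toScheme.Opens) ≤ W.ι ⁻¹ᵁ W),
      IsIso (W.ι.appLE W ⊤ e) := fun {Z} W e => by
    rw [Scheme.Opens.ι_appLE]
    refine @Functor.map_isIso _ _ _ _ _ _ _ _ ?_
    exact ⟨(homOfLE (by rw [Scheme.Opens.ι_image_top])).op, Subsingleton.elim _ _, Subsingleton.elim _ _⟩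
  haveI := hiso W eV
  haveI := hiso U eU
  have hbV := ConcreteCategory.bijective_of_isIso (W.ι.appLE W ⊤ eV)
  have hbU := ConcreteCategory.bijective_of_isIso (U.ι.appLE U ⊤ eU)
  haveI : Flat (q ∣_ U) := inferInstance
  haveI : QuasiCompact (q ∣_ U) := MorphismProperty.of_isPullback (isPullback_morphismRestrict q U).flip ‹QuasiCompact q›
  haveI : Surjective (q ∣_ U) := MorphismProperty.of_isPullback (isPullback_morphismRestrict q U).flip ‹Surjective q›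
  haveI : EffectiveEpi (q ∣_ U) := inferInstance
  have hsq : ∀ s, (q ∣_ U).appTop (U.ι.appLE U ⊤ eU s) = W.ι.appLE W ⊤ eV (q.app U s) := by
    have e : U.ι.appLE U ⊤ eU ≫ (q ∣_ U).appTop = q.app U ≫ W.ι.appLE W ⊤ eV := by
      rw [show (q ∣_ U).appTop = (q ∣_ U).appLE ⊤ ⊤ le_rfl from
          Scheme.Hom.app_eq_appLE (f := q ∣_ U) (U := ⊤),
        Scheme.Hom.app_eq_appLE]
      refine (Scheme.Hom.appLE_comp_appLE (q ∣_ U) U.ι U ⊤ ⊤ eU le_rfl).trans
        (Eq.trans ?_ (Scheme.Hom.appLE_comp_appLE W.ι q U W ⊤ le_rfl eV).symm)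
      simp only [morphismRestrict_ι]
      rfl
    exact fun s => ConcreteCategory.congr_hom e s
  refine ⟨fun s t e => hbU.1 ?_, fun f hf => ?_⟩
  · have he : (q ∣_ U).appTop (U.ι.appLE U ⊤ eU s) = (q ∣_ U).appTop (U.ι.appLE U ⊤ eU t) := by
      rw [hsq, hsq, e]
    have hL : ∀ u : Γ(U.toScheme, ⊤), (toLine u).appTop coordFun = u := toLine_appTop
    rw [← hL (U.ι.appLE U ⊤ eU s), ← hL (U.ι.appLE U ⊤ eU t)]
    refine congrArg (fun g : U.toScheme ⟶ line.{u} => g.appTop coordFun) ((cancel_epi (q ∣_ U)).1 (toLine_ext ?_))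
    rw [Scheme.Hom.comp_appTop, Scheme.Hom.comp_appTop, CommRingCat.comp_apply, CommRingCat.comp_apply,
      toLine_appTop, toLine_appTop]
    exact he
  · let f' := W.ι.appLE W ⊤ eV f
    have hc : ∀ {Z : Scheme.{u}} (g₁ g₂ : Z ⟶ W.toScheme), g₁ ≫ q ∣_ U = g₂ ≫ q ∣_ U →
        g₁ ≫ toLine f' = g₂ ≫ toLine f' := fun {Z} g₁ g₂ e => toLine_ext (by
      rw [Scheme.Hom.comp_appTop, Scheme.Hom.comp_appTop, CommRingCat.comp_apply,
        CommRingCat.comp_apply, toLine_appTop]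
      have hg : (g₁ ≫ W.ι) ≫ q = (g₂ ≫ W.ι) ≫ q := by
        rw [Category.assoc, Category.assoc, ← morphismRestrict_ι q U, reassoc_of% e]
      have h1 := hf (g₁ ≫ W.ι) (g₂ ≫ W.ι) (fun z _ => (g₁ z).2) (fun z _ => (g₂ z).2) hg
      rw [← Scheme.Hom.appLE_comp_appLE g₁ W.ι W ⊤ ⊤ eV le_top,
        ← Scheme.Hom.appLE_comp_appLE g₂ W.ι W ⊤ ⊤ eV le_top, CommRingCat.comp_apply,
        CommRingCat.comp_apply] at h1
      rwa [Scheme.Hom.appTop, Scheme.Hom.appTop, Scheme.Hom.app_eq_appLE, Scheme.Hom.app_eq_appLE])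
    let d := EffectiveEpi.desc (q ∣_ U) (toLine f') hc
    obtain ⟨s, hs⟩ := hbU.2 (d.appTop coordFun)
    refine ⟨s, hbV.1 ?_⟩
    rw [← hsq, hs, ← CommRingCat.comp_apply, ← Scheme.Hom.comp_appTop, EffectiveEpi.fac (q ∣_ U) (toLine f') hc,
      toLine_appTop]

/-- Pullback along a flat quasi-compact surjection is injective on global functions. -/
theorem injective_appLE : Function.Injective (q.appLE ⊤ ⊤ le_top) := by
  have h := (sections q ⊤).1
  rwa [Scheme.Hom.app_eq_appLE] at h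

end GrothLib.FpqcPic26
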